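import Cfsg.Agent.Lib.Co1Out.Checks

/-!
The centralisers of the elements of orders 23 and 11 in the quotient by the centre.
-/

set_option autoImplicit false
set_option maxRecDepth 100000

namespace Cfsg.Lib.Co1Out

open Cfsg Cfsg.Lib.Concrete

theorem center_eq {z : Co0} (hz : z ∈ Subgroup.center Co0) : z = 1 ∨ z = negElt := by
  obtain ⟨s, hs, hv⟩ := mem_center_apply hz 0
  rcases hs with rfl | rfl
  · exact Or.inl (co0_ext fun i => Subtype.ext (by rw [show ((z • e8 i : leechLattice) : GolayPt → ℤ) = _ from hv (e8 i), one_smul, one_smul]))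
  · exact Or.inr (co0_ext fun i => Subtype.ext (by
      rw [show ((z • e8 i : leechLattice) : GolayPt → ℤ) = _ from hv (e8 i), neg_one_smul, negElt_apply, AddSubgroup.coe_neg]))

theorem negElt_sq : negElt * negElt = 1 := Subtype.ext (Equiv.ext fun v => neg_neg v)

theorem negElt_ne : negElt ≠ 1 := fun h => by
  have := congrArg (fun z : Co0 => ((z • top : leechLattice) : GolayPt → ℤ) none) h
  simp [negElt_apply, top, e8] at this

/-- An element commuting up to the centre with one of odd order commutes with it. -/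
theorem commute_of_toCo1 {g a : Co0} {n : ℕ} (hn : a ^ n = 1) (hodd : Odd n)
    (h : toCo1 g * toCo1 a = toCo1 a * toCo1 g) : g * a = a * g := by
  have hc : (g * a * g⁻¹) * a⁻¹ ∈ Subgroup.center Co0 := (QuotientGroup.eq_one_iff _).1 (by
    show toCo1 _ = 1
    simp only [map_mul, map_inv]
    rw [h, mul_inv_cancel_right, mul_inv_cancel])
  rcases center_eq hc with e | e
  · exact mul_inv_eq_iff_eq_mul.1 (mul_inv_eq_one.1 e)
  · exfalso
    have h1 : g * a * g⁻¹ = negElt * a := mul_inv_eq_iff_eq_mul.1 e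
    have h2 := congrArg (· ^ n) h1
    simp only [conj_pow, hn, mul_one, mul_inv_cancel] at h2
    rw [(Commute.mul_pow ((Subgroup.mem_center_iff.1 negElt_mem a).symm) n), hn, mul_one] at h2
    obtain ⟨m, rfl⟩ := hodd
    rw [pow_succ, pow_mul, pow_two, negElt_sq, one_pow, one_mul] at h2
    exact negElt_ne h2.symm

/-- The shift as an element of M24. -/
def shiftM : M24 := ⟨mShift, mShift_mem⟩

/-- The doubling map as an element of M24. -/
def dblM : M24 := ⟨dblMap, dblMap_mem⟩

theorem gen_zero : gen 0 = permHom shiftM := rfl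

theorem gen_one : gen 1 = permHom dblM := rfl

theorem shiftM_pow : shiftM ^ 23 = 1 := Subtype.ext (by
  rw [SubmonoidClass.coe_pow]; exact Equiv.ext (by decide +kernel))

theorem dblM_pow : dblM ^ 11 = 1 := Subtype.ext (by
  rw [SubmonoidClass.coe_pow]; exact Equiv.ext (by decide +kernel))

theorem shift_moves : mShift (some 0) ≠ some 0 := by decide +kernel

theorem orderOf_shiftM : orderOf shiftM = 23 :=
  haveI : Fact (Nat.Prime 23) := ⟨by norm_num⟩
  orderOf_eq_prime shiftM_pow fun h => by
    have := congrArg (fun z : M24 => (z : Equiv.Perm GolayPt) (some 0)) h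
    exact shift_moves this

theorem shift_points : ∀ x : ZMod 23, (mShift ^ x.val) (some 0) = some x := by decide +kernel

theorem shift_dot (a b : ℤ) : dotInt (fun p : GolayPt => if p = none then b else a) (threeL : GolayPt → ℤ) = 23 * a - 3 * b ∧
    sqNorm (fun p : GolayPt => if p = none then b else a) = 23 * a ^ 2 + b ^ 2 := by
  constructor
  · simp [dotInt, threeL_apply, Fintype.sum_option]; ring
  · simp [sqNorm, Fintype.sum_option]; ring

/-- The centraliser of the element of order 23. -/
theorem centralizer_shift {x : Spor.Co1} (hx : x * toCo1 (gen 0) = toCo1 (gen 0) * x) :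
    ∃ t : ℕ, x = toCo1 (gen 0) ^ t := by
  obtain ⟨g, rfl⟩ := QuotientGroup.mk'_surjective (Subgroup.center Co0) x
  have hU : (gen 0) ^ 23 = 1 := by rw [gen_zero, ← map_pow, shiftM_pow, map_one]
  have hc : g * gen 0 = gen 0 * g := commute_of_toCo1 hU ⟨11, rfl⟩ hx
  rw [gen_zero] at hc
  have hfix : permHom shiftM • threeL = threeL := (permHom_fix_iff _ _).2 fun p => by
    rw [threeL_apply, threeL_apply]; revert p; decide +kernel
  have hy : permHom shiftM • (g • threeL) = g • threeL := by rw [← mul_smul, ← hc, mul_smul, hfix]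
  set y := g • threeL with hydef
  have hconst : ∀ q : ZMod 23, (y : GolayPt → ℤ) (some q) = (y : GolayPt → ℤ) (some 0) := fun q => by
    have hk : ∀ k : ℕ, permHom (shiftM ^ k) • y = y := fun k => by
      rw [map_pow]; exact MulAction.mem_stabilizer_iff.1 (pow_mem (MulAction.mem_stabilizer_iff.2 hy) k)
    have := (permHom_fix_iff _ _).1 (hk q.val) (some 0)
    rwa [SubmonoidClass.coe_pow, show ((shiftM : M24) : Equiv.Perm GolayPt) = mShift from rfl, shift_points] at this
  have heq : (y : GolayPt → ℤ) = fun p => if p = none then (y : GolayPt → ℤ) none else (y : GolayPt → ℤ) (some 0) :=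
    funext fun p => by cases p with
      | none => simp
      | some q => simp [hconst q]
  set a := (y : GolayPt → ℤ) (some 0)
  set b := (y : GolayPt → ℤ) none
  have hn : 23 * a ^ 2 + b ^ 2 = 32 := by
    rw [← (shift_dot a b).2, ← heq, hydef]
    exact (co0_sqNorm _ _).trans reps_check.2.2.2.2.2.1
  have hd : (8 : ℤ) ∣ 23 * a - 3 * b := by
    rw [← (shift_dot a b).1, ← heq]; exact eight_dvd_dot y.2 threeL.2
  have ha : -1 ≤ a ∧ a ≤ 1 := ⟨by nlinarith, by nlinarith⟩
  have hb : -5 ≤ b ∧ b ≤ 5 := ⟨by nlinarith, by nlinarith⟩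
  have hcases : (a = 1 ∧ b = -3) ∨ (a = -1 ∧ b = 3) := by
    obtain ⟨a1, a2⟩ := ha
    obtain ⟨b1, b2⟩ := hb
    interval_cases a <;> interval_cases b <;> first | omega | (norm_num at hn)
  obtain ⟨g', hg', hfix', hc'⟩ : ∃ g' : Co0, toCo1 g' = toCo1 g ∧ g' • threeL = threeL ∧
      g' * permHom shiftM = permHom shiftM * g' := by
    rcases hcases with ⟨h1, h2⟩ | ⟨h1, h2⟩
    · refine ⟨g, rfl, Subtype.ext ?_, hc⟩
      rw [← hydef, heq]
      funext p
      rw [threeL_apply, h1, h2]
    · refine ⟨negElt * g, ?_, Subtype.ext ?_, ?_⟩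
      · rw [map_mul, show toCo1 negElt = 1 from (QuotientGroup.eq_one_iff _).2 negElt_mem, one_mul]
      · rw [mul_smul, negElt_apply, AddSubgroup.coe_neg, ← hydef, heq]
        funext p
        rw [Pi.neg_apply, threeL_apply, h1, h2]
        split <;> norm_num
      · rw [mul_assoc, hc, ← mul_assoc, ← mul_assoc, (Subgroup.mem_center_iff.1 negElt_mem _).symm]
  obtain ⟨σ, hσn, rfl⟩ := normalizer_three orderOf_shiftM rfl hfix' (by
    rw [hc', mul_inv_cancel_right]; exact Subgroup.mem_zpowers _)
  have hσ : σ * shiftM = shiftM * σ := permHom_injective (by rw [map_mul, map_mul]; exact hc')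
  have hsn : σ.1 none = none := hσn
  obtain ⟨q, hq⟩ : ∃ q : ZMod 23, σ.1 (some 0) = some q := by
    rcases hp : σ.1 (some 0) with _ | q
    · exact absurd (σ.1.injective (hp.trans hsn.symm)) (by simp)
    · exact ⟨q, rfl⟩
  refine ⟨q.val, ?_⟩
  show toCo1 g = _
  rw [← hg', gen_zero, ← map_pow, ← map_pow]
  refine congrArg toCo1 (congrArg permHom (Subtype.ext (Equiv.ext fun p => ?_)))
  rw [SubmonoidClass.coe_pow]
  show σ.1 p = (mShift ^ q.val) p
  have hcomm : ∀ k : ℕ, σ.1 * mShift ^ k = mShift ^ k * σ.1 := fun k =>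
    Commute.pow_right (show Commute σ.1 mShift from congrArg Subtype.val hσ) k
  cases p with
  | none =>
    rw [hsn]
    have h0 : ∀ k : ℕ, (mShift ^ k) none = none := fun k => Function.IsFixedPt.perm_pow (e := mShift) (show mShift none = none from rfl) k
    rw [h0]
  | some r =>
    rw [← shift_points r, ← Equiv.Perm.mul_apply, hcomm, Equiv.Perm.mul_apply, hq, ← shift_points q,
      ← Equiv.Perm.mul_apply, ← Equiv.Perm.mul_apply, ← pow_add, ← pow_add, add_comm]

/-- The four base points of the orbits of the doubling map. -/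
def basePt : ℕ → GolayPt
  | 0 => some 0
  | 1 => none
  | 2 => some 1
  | _ => some 5

/-- The orbit of a position. -/
def orbKind (i : ℕ) : ℕ :=
  [0, 2, 2, 2, 2, 3, 2, 3, 2, 2, 3, 3, 2, 2, 3, 3, 2, 3, 2, 3, 3, 3, 3, 1].getD i 0

/-- The place of a position in its orbit. -/
def orbExp (i : ℕ) : ℕ :=
  [0, 0, 1, 8, 2, 0, 9, 9, 3, 5, 1, 4, 10, 7, 10, 8, 4, 3, 6, 7, 2, 6, 5, 0].getD i 0

theorem orb_spec : ∀ i : Fin 24, (dblMap ^ orbExp i.val) (basePt (orbKind i.val)) = gpt i ∧ orbKind i.val < 4 := by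
  decide +kernel

theorem equivariant_of_base (σ : Equiv.Perm GolayPt) (h : σ * dblMap = dblMap * σ) (i : Fin 24) :
    σ (gpt i) = (dblMap ^ orbExp i.val) (σ (basePt (orbKind i.val))) := by
  conv_lhs => rw [← (orb_spec i).1]
  exact DFunLike.congr_fun (Commute.pow_right (show Commute σ dblMap from h) _) _

/-- A vector constant on the orbits. -/
def fourList (a b c d : ℤ) : List ℤ :=
  (List.finRange 24).map fun i => [a, b, c, d].getD (orbKind i.val) 0

/-- The vectors against which the candidates are tested. -/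
def testGens : List (List ℤ) :=
  coords oddBase :: (basisMasks.map fun b => coords (twoWord b)) ++
    ((List.finRange 24).map fun i => coords (fourPair (gpt i)))

theorem testGens_mem {l : List ℤ} (h : l ∈ testGens) : ∃ x ∈ leechLattice, l = coords x := by
  simp only [testGens, List.cons_append, List.mem_cons, List.mem_append, List.mem_map] at h
  rcases h with h | ⟨b, hb, h⟩ | ⟨i, -, h⟩
  · exact ⟨_, (gens_mem (Or.inl (Or.inl rfl))).1, h⟩
  · exact ⟨_, (gens_mem (Or.inl (Or.inr ⟨b, hb, rfl⟩))).1, h.symm⟩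
  · exact ⟨_, (gens_mem (Or.inr ⟨_, rfl⟩)).1, h.symm⟩

/-- The six fixed axes. -/
def axes : List (ℕ × Fin 24) := (List.range 3).flatMap fun i => [(i, (0 : Fin 24)), (i, (23 : Fin 24))]

/-- Squares summed. -/
def normList (l : List ℤ) : ℤ := dotList l l

/-- The search over the fixed vectors of norm 64. -/
def fixedCheck : Bool :=
  (List.range 17).all fun a => (List.range 17).all fun b => (List.range 5).all fun c => (List.range 5).all fun d =>
    ((a : ℤ) - 8) * ((a : ℤ) - 8) + ((b : ℤ) - 8) * ((b : ℤ) - 8) + 11 * (((c : ℤ) - 2) * ((c : ℤ) - 2))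
        + 11 * (((d : ℤ) - 2) * ((d : ℤ) - 2)) != 64 ||
      testGens.any (fun g => dotList (fourList ((a : ℤ) - 8) ((b : ℤ) - 8) ((c : ℤ) - 2) ((d : ℤ) - 2)) g % 8 != 0) ||
      axes.any fun q => fourList ((a : ℤ) - 8) ((b : ℤ) - 8) ((c : ℤ) - 2) ((d : ℤ) - 2) == actW (rep [5] q.1) (eList q.2) ||
        fourList ((a : ℤ) - 8) ((b : ℤ) - 8) ((c : ℤ) - 2) ((d : ℤ) - 2) == (actW (rep [5] q.1) (eList q.2)).map Neg.neg

theorem fixedCheck_ok : fixedCheck = true := by decide +kernel

theorem dotList_coords (x y : GolayPt → ℤ) : dotList (coords x) (coords y) = dotInt x y := by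
  rw [coords, coords, dotList_map, dotInt, sum_gpt, Fin.sum_univ_def]

theorem normList_four (a b c d : ℤ) :
    normList (fourList a b c d) = a * a + b * b + 11 * (c * c) + 11 * (d * d) := by
  simp [normList, fourList, orbKind, List.finRange_succ, dotList]
  ring

theorem fixed_vectors {y : leechLattice} (hn : sqNorm (y : GolayPt → ℤ) = 64)
    (hy : ∀ p, (y : GolayPt → ℤ) (dblMap p) = (y : GolayPt → ℤ) p) :
    ∃ q ∈ axes, y = prodW (rep [5] q.1) • e8 (gpt q.2) ∨ y = prodW (rep [5] q.1) • -e8 (gpt q.2) := by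
  have hk : ∀ (k : ℕ) p, (y : GolayPt → ℤ) ((dblMap ^ k) p) = (y : GolayPt → ℤ) p := by
    intro k
    induction k with
    | zero => exact fun p => rfl
    | succ k ih => exact fun p => by rw [pow_succ', Equiv.Perm.mul_apply, hy, ih]
  have hl : coords (y : GolayPt → ℤ) = fourList ((y : GolayPt → ℤ) (basePt 0)) ((y : GolayPt → ℤ) (basePt 1))
      ((y : GolayPt → ℤ) (basePt 2)) ((y : GolayPt → ℤ) (basePt 3)) := by
    refine List.map_inj_left.2 fun i _ => ?_
    conv_lhs => rw [← (orb_spec i).1, hk]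
    have h4 := (orb_spec i).2
    generalize orbKind i.val = k at h4 ⊢
    interval_cases k <;> rfl
  set a := (y : GolayPt → ℤ) (basePt 0)
  set b := (y : GolayPt → ℤ) (basePt 1)
  set c := (y : GolayPt → ℤ) (basePt 2)
  set d := (y : GolayPt → ℤ) (basePt 3)
  have h64 : a * a + b * b + 11 * (c * c) + 11 * (d * d) = 64 := by
    rw [← normList_four, ← hl, normList, dotList_coords, ← hn, dotInt, sqNorm]
    simp only [pow_two]
  have ha : -8 ≤ a ∧ a ≤ 8 := ⟨by nlinarith, by nlinarith⟩
  have hb : -8 ≤ b ∧ b ≤ 8 := ⟨by nlinarith, by nlinarith⟩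
  have hc : -2 ≤ c ∧ c ≤ 2 := ⟨by nlinarith, by nlinarith⟩
  have hd : -2 ≤ d ∧ d ≤ 2 := ⟨by nlinarith, by nlinarith⟩
  have h := fixedCheck_ok
  simp only [fixedCheck, List.all_eq_true, List.mem_range] at h
  have h' := h (a + 8).toNat (by omega) (b + 8).toNat (by omega) (c + 2).toNat (by omega) (d + 2).toNat (by omega)
  rw [show (((a + 8).toNat : ℤ) - 8) = a by omega, show (((b + 8).toNat : ℤ) - 8) = b by omega,
    show (((c + 2).toNat : ℤ) - 2) = c by omega, show (((d + 2).toNat : ℤ) - 2) = d by omega, ← hl] at h'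
  simp only [Bool.or_eq_true, List.any_eq_true, bne_iff_ne, beq_iff_eq] at h'
  rcases h' with (h1 | ⟨g, hg, h1⟩) | ⟨q, hq, h1⟩
  · exact absurd h64 h1
  · obtain ⟨x, hx, rfl⟩ := testGens_mem hg
    rw [dotList_coords] at h1
    exact absurd (Int.emod_eq_zero_of_dvd (eight_dvd_dot y.2 hx)) h1
  · refine ⟨q, hq, h1.imp (fun h2 => ?_) (fun h2 => ?_)⟩
    · exact Subtype.ext (coords_injective (h2.trans (by rw [coords_prodW, coords_e8])))
    · refine Subtype.ext (coords_injective (h2.trans ?_))
      rw [show prodW (rep [5] q.1) • -e8 (gpt q.2) = -(prodW (rep [5] q.1) • e8 (gpt q.2)) from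
        map_neg (co0Hom _) _, AddSubgroup.coe_neg, coords_neg, coords_prodW, coords_e8]

/-- The image of a mask under the equivariant extension of four values. -/
def extImg (w0 w1 p r : ℕ) (m : ℕ) : ℕ :=
  orMask bits24 (fun i => m.testBit i)
    fun i => Nat.rec ([w0, w1, p, r].getD (orbKind i) 0) (fun _ v => pget dblPack v) (orbExp i)

/-- Only the powers of the doubling map commute with it in M24. -/
def extCheck : Bool :=
  [0, 23].all fun w0 => [0, 23].all fun w1 => bits24.all fun p => bits24.all fun r =>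
    w0 == w1 || p == 0 || p == 23 || r == 0 || r == 23 ||
      !(isCode (extImg w0 w1 p r 340831)) || !(isCode (extImg w0 w1 p r 681662)) ||
      (List.range 11).any fun l => w0 == 0 && w1 == 23 && p == 2 ^ l % 23 && r == 5 * 2 ^ l % 23

theorem extCheck_ok : extCheck = true := by decide +kernel

theorem orMask_lt' (w0 w1 p r m : ℕ) (h0 : w0 < 24) (h1 : w1 < 24) (hp : p < 24) (hr : r < 24) :
    extImg w0 w1 p r m < 2 ^ 24 := by
  refine orMask_lt _ _ _ fun i hi _ => ?_
  have hb : ∀ v, v < 24 → pget dblPack v < 24 := by decide +kernel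
  generalize orbExp i = k
  induction k with
  | zero =>
    simp only [Nat.rec_zero]
    have : ∀ l : ℕ, [w0, w1, p, r].getD l 0 < 24 := fun l => by
      match l with
      | 0 => simpa
      | 1 => simpa
      | 2 => simpa
      | 3 => simpa
      | l + 4 => simp
    exact this _
  | succ k ih => exact hb _ ih

theorem dbl_fixed : ∀ p : GolayPt, dblMap p = p → p = some 0 ∨ p = none := by decide +kernel

theorem pow_dbl_base : ∀ l : Fin 11, (dblMap ^ l.val) (basePt 0) = some 0 ∧ (dblMap ^ l.val) (basePt 1) = none ∧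
    (gidx ((dblMap ^ l.val) (basePt 2))).val = 2 ^ l.val % 23 ∧
    (gidx ((dblMap ^ l.val) (basePt 3))).val = 5 * 2 ^ l.val % 23 := by decide +kernel

/-- The centraliser of the doubling map in M24. -/
theorem centralizer_dblM {σ : Equiv.Perm GolayPt} (hσ : σ ∈ M24) (h : σ * dblMap = dblMap * σ) :
    ∃ l < 11, σ = dblMap ^ l := by
  have hfix : ∀ p, dblMap p = p → dblMap (σ p) = σ p := fun p hp => by
    rw [← Equiv.Perm.mul_apply, ← h, Equiv.Perm.mul_apply, hp]
  have himg : ∀ i : Fin 24, (gidx (σ (gpt i))).val = Nat.rec ([(gidx (σ (basePt 0))).val, (gidx (σ (basePt 1))).val,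
      (gidx (σ (basePt 2))).val, (gidx (σ (basePt 3))).val].getD (orbKind i.val) 0) (fun _ v => pget dblPack v)
      (orbExp i.val) := fun i => by
    rw [equivariant_of_base σ h i]
    generalize orbExp i.val = k
    induction k with
    | zero =>
      have h4 := (orb_spec i).2
      generalize orbKind i.val = j at h4 ⊢
      interval_cases j <;> rfl
    | succ k ih =>
      rw [pow_succ', Equiv.Perm.mul_apply, rep_dblMap, ih]
  have hmask : ∀ m, m < 2 ^ 24 → isCode m = true → isCode (extImg (gidx (σ (basePt 0))).val (gidx (σ (basePt 1))).val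
      (gidx (σ (basePt 2))).val (gidx (σ (basePt 3))).val m) = true := fun m hm hc => by
    refine (mset_mem_supports_iff (orMask_lt' _ _ _ _ _ (gidx _).isLt (gidx _).isLt (gidx _).isLt (gidx _).isLt)).1 ?_
    have := mem_M24_iff.1 hσ _ ((mset_mem_supports_iff hm).2 hc)
    convert this using 1
    ext y
    rw [Finset.mem_smul_finset, mem_mset, extImg, testBit_orMask]
    constructor
    · rintro ⟨i, hi, hm', hp⟩
      refine ⟨gpt ⟨i, mem_bits24.1 hi⟩, by simpa [gidx_gpt] using hm', gidx_injective (Fin.ext ?_)⟩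
      exact (himg ⟨i, mem_bits24.1 hi⟩).trans hp
    · rintro ⟨x, hx, rfl⟩
      refine ⟨(gidx x).val, mem_bits24.2 (gidx x).isLt, mem_mset.1 hx, ?_⟩
      have := himg (gidx x)
      rw [gpt_gidx] at this
      exact this.symm
  have hne : ∀ {a b : GolayPt}, a ≠ b → (gidx (σ a)).val ≠ (gidx (σ b)).val := fun hab e =>
    hab (σ.injective (gidx_injective (Fin.ext e)))
  have hb0 := dbl_fixed _ (hfix (basePt 0) (by decide +kernel))
  have hb1 := dbl_fixed _ (hfix (basePt 1) (by decide +kernel))
  have hmov : ∀ p, dblMap p ≠ p → (gidx (σ p)).val ≠ 0 ∧ (gidx (σ p)).val ≠ 23 := fun p hp => by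
    have hne' : dblMap (σ p) ≠ σ p := fun e => hp (σ.injective (by
      rw [← Equiv.Perm.mul_apply, h, Equiv.Perm.mul_apply, e]))
    constructor <;> intro e <;> apply hne'
    · rw [show σ p = some 0 from gidx_injective (Fin.ext e)]; decide +kernel
    · rw [show σ p = none from gidx_injective (Fin.ext e)]; decide +kernel
  have h2 := hmov (basePt 2) (by decide +kernel)
  have h3 := hmov (basePt 3) (by decide +kernel)
  have hw : ∀ x : GolayPt, x = some 0 ∨ x = none → (gidx x).val ∈ [0, 23] := fun x hx => by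
    rcases hx with rfl | rfl <;> decide +kernel
  have h' := extCheck_ok
  simp only [extCheck, List.all_eq_true] at h'
  have h'' := h' _ (hw _ hb0) _ (hw _ hb1) _ (mem_bits24.2 (gidx (σ (basePt 2))).isLt) _
    (mem_bits24.2 (gidx (σ (basePt 3))).isLt)
  simp only [Bool.or_eq_true, beq_iff_eq, Bool.not_eq_true', List.any_eq_true, List.mem_range, Bool.and_eq_true,
    h2.1, h2.2, h3.1, h3.2, hne (show basePt 0 ≠ basePt 1 by decide), false_or,
    hmask 340831 (by norm_num) (by decide +kernel), hmask 681662 (by norm_num) (by decide +kernel),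
    Bool.true_eq_false] at h''
  obtain ⟨l, hl, ⟨⟨e0, e1⟩, e2⟩, e3⟩ := h''
  refine ⟨l, hl, Equiv.ext fun p => ?_⟩
  obtain ⟨p0, p1, p2, p3⟩ := pow_dbl_base ⟨l, hl⟩
  have hbase : ∀ j < 4, σ (basePt j) = (dblMap ^ l) (basePt j) := fun j hj => by
    apply gidx_injective
    apply Fin.ext
    interval_cases j
    · rw [p0, e0]; decide
    · rw [p1, e1]; decide
    · rw [e2, p2]
    · rw [e3, p3]
  rw [← gpt_gidx p, equivariant_of_base σ h, hbase _ (orb_spec _).2,
    equivariant_of_base (dblMap ^ l) (Commute.self_pow dblMap l).symm.eq]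

/-- The invariant code sets. -/
theorem invariant_code {c : Finset GolayPt} (hc : c ∈ codeSets) (hinv : ∀ p, dblMap p ∈ c ↔ p ∈ c) :
    c = ∅ ∨ c = dodD ∨ c = Finset.univ ∨ c = dodDᶜ := by
  have hk : ∀ (k : ℕ) p, (dblMap ^ k) p ∈ c ↔ p ∈ c := by
    intro k
    induction k with
    | zero => exact fun p => Iff.rfl
    | succ k ih => exact fun p => by rw [pow_succ', Equiv.Perm.mul_apply, hinv, ih]
  have hfin : ∀ b : Fin 4 → Bool, isCode (orMask bits24 (fun i => if h : orbKind i < 4 then b ⟨_, h⟩ else false) id) = true →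
      orMask bits24 (fun i => if h : orbKind i < 4 then b ⟨_, h⟩ else false) id ∈ [0, 340831, 16777215, 16436384] := by
    decide +kernel
  set m := orMask bits24 (fun i => if h : orbKind i < 4 then decide (basePt (⟨_, h⟩ : Fin 4).val ∈ c) else false) id
    with hm
  have hlt : m < 2 ^ 24 := orMask_lt _ _ _ fun i hi _ => mem_bits24.1 hi
  have heq : mset m = c := by
    ext p
    rw [mem_mset, hm, testBit_orMask]
    have h4 := (orb_spec (gidx p)).2
    have hp : p ∈ c ↔ basePt (orbKind (gidx p).val) ∈ c := by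
      conv_lhs => rw [← gpt_gidx p, ← (orb_spec (gidx p)).1, hk]
    constructor
    · rintro ⟨i, hi, hb, e⟩
      simp only [id] at e
      subst e
      rw [dif_pos h4, decide_eq_true_eq] at hb
      exact hp.2 hb
    · intro hpc
      exact ⟨_, mem_bits24.2 (gidx p).isLt, by rw [dif_pos h4, decide_eq_true_eq]; exact hp.1 hpc, rfl⟩
  have h' := hfin (fun j => decide (basePt j.val ∈ c)) ((mset_mem_supports_iff hlt).1 (by rw [heq]; exact hc))
  rw [← hm] at h'
  simp only [List.mem_cons, List.not_mem_nil, or_false] at h'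
  rw [← heq]
  rcases h' with e | e | e | e <;> rw [e]
  · exact Or.inl mset_zero
  · exact Or.inr (Or.inl rfl)
  · exact Or.inr (Or.inr (Or.inl mset_full))
  · exact Or.inr (Or.inr (Or.inr (by decide +kernel)))

theorem mem_cands {i e l : ℕ} (hi : i < 3) (he : e < 2) (hl : l < 11) : candW i e l ∈ cands := by
  simp only [cands, List.mem_flatMap, List.mem_map, List.mem_range]
  exact ⟨i, hi, e, he, l, hl, rfl⟩

theorem candW_comm (i : ℕ) : prodW (rep [5] i) * gen 1 = gen 1 * prodW (rep [5] i) := by
  have h : gen 5 * gen 1 = gen 1 * gen 5 := by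
    have := commute_of_toCo1 (g := gen 5) (a := gen 1) (n := 11)
      (by rw [gen_one, ← map_pow, dblM_pow, map_one]) ⟨5, rfl⟩ ?_
    · exact this
    · rw [← map_mul, ← map_mul, ← prodW_single 5, ← prodW_single 1, ← prodW_append, ← prodW_append]
      exact toCo1_eq_of_eqPM basic_rel.2.2.2.2.2.2.2.2.2.2.2.2.1
  rw [prodW_rep, prodW_single]
  exact (Commute.pow_left (show Commute (gen 5) (gen 1) from h) i).eq

/-- The centraliser of the element of order 11. -/
theorem centralizer_dbl {x : Spor.Co1} (hx : x * toCo1 (gen 1) = toCo1 (gen 1) * x) :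
    ∃ w ∈ cands, x = toCo1 (prodW w) := by
  obtain ⟨g, rfl⟩ := QuotientGroup.mk'_surjective (Subgroup.center Co0) x
  have hH : (gen 1) ^ 11 = 1 := by rw [gen_one, ← map_pow, dblM_pow, map_one]
  have hc : g * gen 1 = gen 1 * g := commute_of_toCo1 hH ⟨5, rfl⟩ hx
  have hy : ∀ p, ((g • top : leechLattice) : GolayPt → ℤ) (dblMap p) = ((g • top : leechLattice) : GolayPt → ℤ) p := by
    refine (permHom_fix_iff dblM _).1 ?_
    rw [← gen_one, ← mul_smul, ← hc, mul_smul, gen_one, fixed_none dblM (by decide +kernel)]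
  obtain ⟨⟨i, q⟩, hq, hyq⟩ := fixed_vectors ((co0_sqNorm _ _).trans top_norm) hy
  have hi : i < 3 := by
    simp only [axes, List.mem_flatMap, List.mem_range] at hq
    obtain ⟨j, hj, hq⟩ := hq
    simp only [List.mem_cons, List.not_mem_nil, or_false, Prod.mk.injEq] at hq
    omega
  set k := (prodW (rep [5] i))⁻¹ * g with hk
  have hkc : k * gen 1 = gen 1 * k :=
    ((Commute.inv_left (show Commute (prodW (rep [5] i)) (gen 1) from candW_comm i)).mul_left hc).eq
  have hkm : k ∈ crossStab := mem_crossStab_iff_top.2 (by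
    rw [hk, mul_smul]
    rcases hyq with e | e <;> rw [e, inv_smul_smul]
    · exact e8_mem_stdCross _
    · exact ⟨gpt q, -8, Or.inr rfl, by simp [e8, Pi.single_neg]⟩)
  obtain ⟨σ, c, hcc, hkv⟩ := crossStab_monomial ⟨k, hkm⟩
  have hdbl : ∀ v : leechLattice, ((gen 1 • v : leechLattice) : GolayPt → ℤ) = signedPerm dblMap ∅ v :=
    fun v => monoCo0_smul dblMap dblMap_mem ∅ empty_mem_codeSets v
  have hpt : ∀ p, σ.1 (dblMap p) = dblMap (σ.1 p) ∧ (σ.1 (dblMap p) ∈ c ↔ σ.1 p ∈ c) := fun p => by
    have h := congrArg (fun z : Co0 => ((z • e8 p : leechLattice) : GolayPt → ℤ)) hkc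
    simp only [mul_smul] at h
    have e1 : gen 1 • e8 p = e8 (dblMap p) := Subtype.ext ((hdbl _).trans ((signedPerm_single dblMap ∅ p 8).trans (by rw [if_neg (Finset.notMem_empty _)]; rfl)))
    rw [e1, hkv, hdbl, hkv, show ((e8 (dblMap p) : leechLattice) : GolayPt → ℤ) = Pi.single (dblMap p) 8 from rfl,
      show ((e8 p : leechLattice) : GolayPt → ℤ) = Pi.single p 8 from rfl, signedPerm_single, signedPerm_single,
      signedPerm_single] at h
    simp only [Finset.notMem_empty, if_false] at h
    have h1 : σ.1 (dblMap p) = dblMap (σ.1 p) := by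
      by_contra hne
      have := congrFun h (σ.1 (dblMap p))
      rw [Pi.single_eq_same, Pi.single_eq_of_ne hne] at this
      split at this <;> omega
    refine ⟨h1, ?_⟩
    have := congrFun h (σ.1 (dblMap p))
    rw [Pi.single_eq_same, h1, Pi.single_eq_same] at this
    rw [h1]
    split at this <;> split at this <;> first | tauto | omega
  have hσc : σ.1 * dblMap = dblMap * σ.1 := Equiv.ext fun p => (hpt p).1
  obtain ⟨l, hl, hσl⟩ := centralizer_dblM σ.2 hσc
  have hcode := invariant_code hcc fun p => by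
    have := (hpt (σ.1.symm p)).2
    rwa [(hpt _).1, Equiv.apply_symm_apply] at this
  have hH' : ∀ v : leechLattice, ((prodW (rep [1] l) • v : leechLattice) : GolayPt → ℤ) = signedPerm σ.1 ∅ v := fun v => by
    rw [prodW_rep, prodW_single, gen_one, ← map_pow, hσl]
    show ((permHom (dblM ^ l) • v : leechLattice) : GolayPt → ℤ) = _
    funext p
    rw [permHom_smul, SubmonoidClass.coe_pow]
    simp [signedPerm, dblM]
  have hE : ∀ v : leechLattice, ((gen 4 • v : leechLattice) : GolayPt → ℤ) = signedPerm 1 dodD v :=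
    fun v => monoCo0_smul 1 (one_mem _) dodD dodD_mem v
  obtain ⟨e, he, hke⟩ : ∃ e < 2, k = prodW (rep [4] e ++ rep [1] l) ∨ k = negElt * prodW (rep [4] e ++ rep [1] l) := by
    rcases hcode with rfl | rfl | rfl | rfl
    · refine ⟨0, by norm_num, Or.inl (co0_ext fun p => Subtype.ext ?_)⟩
      rw [hkv]; exact (hH' _).symm
    · refine ⟨1, by norm_num, Or.inl (co0_ext fun p => Subtype.ext ?_)⟩
      rw [hkv, prodW_append, show prodW (rep [4] 1) = gen 4 from prodW_single 4, mul_smul, hE, hH']
      funext a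
      simp [signedPerm, show Equiv.symm (1 : Equiv.Perm GolayPt) = Equiv.refl _ from rfl]
    · refine ⟨0, by norm_num, Or.inr (co0_ext fun p => Subtype.ext ?_)⟩
      rw [hkv, mul_smul, negElt_apply, AddSubgroup.coe_neg]
      simp only [rep, List.nil_append]
      rw [hH']
      funext a
      simp [signedPerm, show Equiv.symm (1 : Equiv.Perm GolayPt) = Equiv.refl _ from rfl]
    · refine ⟨1, by norm_num, Or.inr (co0_ext fun p => Subtype.ext ?_)⟩
      rw [hkv, mul_smul, negElt_apply, AddSubgroup.coe_neg, prodW_append,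
        show prodW (rep [4] 1) = gen 4 from prodW_single 4, mul_smul, hE, hH']
      funext a
      by_cases ha : a ∈ dodD <;> simp [signedPerm, ha, show Equiv.symm (1 : Equiv.Perm GolayPt) = Equiv.refl _ from rfl]
  refine ⟨candW i e l, mem_cands hi he hl, ?_⟩
  have hg : g = prodW (rep [5] i) * k := by rw [hk, mul_inv_cancel_left]
  show toCo1 g = _
  rw [candW, List.append_assoc, prodW_append, map_mul, hg, map_mul]
  rcases hke with e' | e'
  · rw [e']
  · rw [e', map_mul, show toCo1 negElt = 1 from (QuotientGroup.eq_one_iff _).2 negElt_mem, one_mul]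

end Cfsg.Lib.Co1Out
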