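import Cfsg.Agent.Lib.Co1Out.Elements

/-!
The relations among the six elements, and the exclusion of the other candidates for their images.
-/

set_option autoImplicit false
set_option maxRecDepth 100000

namespace Cfsg.Lib.Co1Out

/-- The element with exponents `i`, `e`, `l`. -/
def candW (i e l : ℕ) : List ℕ := rep [5] i ++ rep [4] e ++ rep [1] l

/-- The candidates commuting with the doubling map. -/
def cands : List (List ℕ) :=
  (List.range 3).flatMap fun i => (List.range 2).flatMap fun e => (List.range 11).map fun l => candW i e l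

/-- A conjugate by a power of the shift. -/
def conjU (w : List ℕ) (k : ℕ) : List ℕ := rep [0] k ++ (w ++ rep [0] (23 - k))

/-- The relation word in the conjugates of the sign change. -/
def wordE (neg : Bool) : List ℕ :=
  [0, 1, 2, 3, 9, 12, 21].flatMap fun k => conjU [4] (if neg then (23 - k) % 23 else k)

/-- The relation word of the cube twist. -/
def wordD (c : List ℕ) : List ℕ := rep ([3] ++ c ++ rep [0] 20) 5

/-- The relation word of the inversion. -/
def wordT (c : List ℕ) : List ℕ := rep ([2] ++ c ++ rep [0] 2 ++ [3] ++ rep [0] 4) 4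

/-- The relation word of the element of order three. -/
def wordR (c : List ℕ) : List ℕ := rep (c ++ [0]) 15

theorem basic_rel : eqPM (rep [0] 23) [] = true ∧ eqPM [0] [] = false ∧ eqPM [1, 0] [0, 0, 1] = true ∧
    eqPM (rep [1] 11) [] = true ∧ eqPM [4, 4] [] = true ∧ eqPM [4] [] = false ∧ eqPM [4, 1] [1, 4] = true ∧
    eqPM ([4] ++ conjU [4] 1) (conjU [4] 1 ++ [4]) = true ∧
    eqPM [3, 1] ([1, 1, 1] ++ [3]) = true ∧ eqPM [3, 4] [4, 3] = true ∧
    eqPM [2, 1] (rep [1] 10 ++ [2]) = true ∧ eqPM [2, 4] [4, 2] = true ∧
    eqPM [5, 1] [1, 5] = true ∧ eqPM [5, 5, 5] [] = true ∧ eqPM [5] [] = false := by decide +kernel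

theorem word_rel : eqPM (wordE false) [] = true ∧ eqPM (wordE true) [] = false ∧ eqPM (wordD []) [] = true ∧
    eqPM (wordT []) [] = true := by decide +kernel

theorem wordR_rel : eqPM (wordR [5]) [] = true := by decide +kernel

theorem gen_five_moves : ((act 5 (eList 23)).getD 23 0 == -4) = true := by decide +kernel

end Cfsg.Lib.Co1Out
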