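import Cfsg.Agent.Lib.Co1Out.Checks

/-!
The exclusion of the other candidates for the images of the monomial elements.
-/

set_option autoImplicit false
set_option maxRecDepth 100000

namespace Cfsg.Lib.Co1Out

theorem excl_E : (cands.all fun c => c == [4] || eqPM c [] || !(eqPM (c ++ c) []) ||
    !(eqPM (c ++ conjU c 1) (conjU c 1 ++ c))) = true := by decide +kernel

theorem excl_D : (cands.all fun c => c == [] || !(eqPM (wordD c) [])) = true := by decide +kernel

theorem excl_T : (cands.all fun c => c == [] || !(eqPM (c ++ [4]) ([4] ++ c)) || !(eqPM (wordT c) [])) = true := by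
  decide +kernel

end Cfsg.Lib.Co1Out
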