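import Cfsg.Agent.Lib.Co1Out.Checks

/-!
The exclusion of the other candidates for the image of the element of order three.
-/

set_option autoImplicit false
set_option maxRecDepth 100000

namespace Cfsg.Lib.Co1Out

theorem excl_R : (cands.all fun c => c == [5] || eqPM c [] || !(eqPM (c ++ c ++ c) []) || !(eqPM (wordR c) [])) = true := by
  decide +kernel

end Cfsg.Lib.Co1Out
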