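import Cfsg.Agent.Lib.Concrete.LeechSimple
import Cfsg.Agent.Lib.Concrete.LeechMatrix
import Cfsg.Agent.Lib.Concrete.LeechModTwoAction

/-!
Six elements of the automorphism group of the rank-24 lattice, with their action on coordinate lists,
and the test for equality modulo the centre.
-/

set_option autoImplicit false
set_option maxRecDepth 100000

namespace Cfsg.Lib.Co1Out

open Cfsg Cfsg.Lib.Concrete

/-- The coordinates as a list. -/
def coords (x : GolayPt → ℤ) : List ℤ := (List.finRange 24).map fun i => x (gpt i)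

theorem coords_injective : Function.Injective coords := fun x y h => funext fun p => by
  have := List.map_inj_left.1 h (gidx p) (List.mem_finRange _)
  simpa [gpt_gidx] using this

theorem coords_getD (x : GolayPt → ℤ) (i : Fin 24) : (coords x).getD i.val 0 = x (gpt i) := by
  simp [coords, List.getD_eq_getElem?_getD, i.isLt]

theorem coords_neg (x : GolayPt → ℤ) : coords (-x) = (coords x).map Neg.neg := by
  simp [coords, Function.comp_def]

/-- The doubling map, packed. -/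
def dblPack : ℕ := 983435072843990828779021698901151808

/-- The map `x ↦ 2x`, fixing the extra point. -/
def dblMap : Equiv.Perm GolayPt :=
  Equiv.optionCongr
    { toFun := fun x : ZMod 23 => 2 * x
      invFun := fun x => 12 * x
      left_inv := by decide
      right_inv := by decide }

theorem rep_dblMap : Concrete.Rep dblMap dblPack := by unfold Concrete.Rep; decide +kernel

theorem dblMap_mem : dblMap ∈ M24 := rep_mem_M24 rep_dblMap (by decide +kernel)

/-- The squares and zero. -/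
def dodD : Finset GolayPt := mset 340831

theorem dodD_mem : dodD ∈ codeSets := (mset_mem_supports_iff (by norm_num)).2 (by decide +kernel)

/-- An element of order three commuting with the doubling map, scaled by eight. -/
def rMat : List (List ℤ) :=
  [
   [-4, 0, 0, 0, 0, -2, 0, -2, 0, 0, -2, -2, 0, 0, -2, -2, 0, -2, 0, -2, -2, -2, -2, 2],
   [0, -4, 0, 0, 0, -2, 0, 2, 0, 0, 2, 2, 0, 0, -2, -2, 0, 2, 0, -2, -2, -2, 2, -2],
   [0, 0, -4, 0, 0, -2, 0, -2, 0, 0, -2, 2, 0, 0, 2, -2, 0, -2, 0, -2, 2, 2, 2, -2],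
   [0, 0, 0, -4, 0, 2, 0, 2, 0, 0, 2, -2, 0, 0, -2, -2, 0, -2, 0, -2, 2, 2, -2, -2],
   [0, 0, 0, 0, -4, 2, 0, -2, 0, 0, -2, -2, 0, 0, -2, -2, 0, 2, 0, 2, -2, 2, 2, -2],
   [2, 2, 2, -2, -2, -4, 2, 0, 2, 2, 0, 0, -2, -2, 0, 0, 2, 0, -2, 0, 0, 0, 0, 0],
   [0, 0, 0, 0, 0, -2, -4, -2, 0, 0, 2, -2, 0, 0, 2, -2, 0, 2, 0, 2, 2, -2, -2, -2],
   [2, -2, 2, -2, 2, 0, 2, -4, 2, -2, 0, 0, 2, 2, 0, 0, -2, 0, -2, 0, 0, 0, 0, 0],
   [0, 0, 0, 0, 0, -2, 0, -2, -4, 0, 2, 2, 0, 0, -2, 2, 0, -2, 0, 2, -2, 2, -2, -2],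
   [0, 0, 0, 0, 0, -2, 0, 2, 0, -4, -2, -2, 0, 0, 2, 2, 0, 2, 0, -2, -2, 2, -2, -2],
   [2, -2, 2, -2, 2, 0, -2, 0, -2, 2, -4, 0, 2, -2, 0, 0, 2, 0, 2, 0, 0, 0, 0, 0],
   [2, -2, -2, 2, 2, 0, 2, 0, -2, 2, 0, -4, -2, 2, 0, 0, 2, 0, -2, 0, 0, 0, 0, 0],
   [0, 0, 0, 0, 0, 2, 0, -2, 0, 0, -2, 2, -4, 0, -2, 2, 0, 2, 0, -2, 2, -2, -2, -2],
   [0, 0, 0, 0, 0, 2, 0, -2, 0, 0, 2, -2, 0, -4, 2, 2, 0, -2, 0, -2, -2, -2, 2, -2],
   [2, 2, -2, 2, 2, 0, -2, 0, 2, -2, 0, 0, 2, -2, -4, 0, 2, 0, -2, 0, 0, 0, 0, 0],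
   [2, 2, 2, 2, 2, 0, 2, 0, -2, -2, 0, 0, -2, -2, 0, -4, -2, 0, 2, 0, 0, 0, 0, 0],
   [0, 0, 0, 0, 0, -2, 0, 2, 0, 0, -2, -2, 0, 0, -2, 2, -4, -2, 0, 2, 2, -2, 2, -2],
   [2, -2, 2, 2, -2, 0, -2, 0, 2, -2, 0, 0, -2, 2, 0, 0, 2, -4, 2, 0, 0, 0, 0, 0],
   [0, 0, 0, 0, 0, 2, 0, 2, 0, 0, -2, 2, 0, 0, 2, -2, 0, -2, -4, 2, -2, -2, -2, -2],
   [2, 2, 2, 2, -2, 0, -2, 0, -2, 2, 0, 0, 2, 2, 0, 0, -2, 0, -2, -4, 0, 0, 0, 0],
   [2, 2, -2, -2, 2, 0, -2, 0, 2, 2, 0, 0, -2, 2, 0, 0, -2, 0, 2, 0, -4, 0, 0, 0],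
   [2, 2, -2, -2, -2, 0, 2, 0, -2, -2, 0, 0, 2, 2, 0, 0, 2, 0, 2, 0, 0, -4, 0, 0],
   [2, -2, -2, 2, -2, 0, 2, 0, 2, 2, 0, 0, 2, -2, 0, 0, -2, 0, 2, 0, 0, 0, -4, 0],
   [-2, 2, 2, 2, 2, 0, 2, 0, 2, 2, 0, 0, 2, 2, 0, 0, 2, 0, 2, 0, 0, 0, 0, -4]]

theorem rMat_ok : matOk rMat = true := by decide +kernel

/-- The six elements. -/
noncomputable def gen : ℕ → Co0
  | 0 => monoCo0 mShift mShift_mem ∅ empty_mem_codeSets
  | 1 => monoCo0 dblMap dblMap_mem ∅ empty_mem_codeSets
  | 2 => monoCo0 projInv projInv_mem ∅ empty_mem_codeSets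
  | 3 => monoCo0 cubeTwist cubeTwist_mem ∅ empty_mem_codeSets
  | 4 => monoCo0 1 (one_mem _) dodD dodD_mem
  | _ => matCo0 rMat rMat_ok

/-- Signed reindexing of a list. -/
def monoAct (src : List ℕ) (c : ℕ) (l : List ℤ) : List ℤ :=
  (List.finRange 24).map fun i => if c.testBit i.val then -(l.getD (src.getD i.val 0) 0) else l.getD (src.getD i.val 0) 0

/-- A row product. -/
def dotList : List ℤ → List ℤ → ℤ
  | a :: r, b :: l => a * b + dotList r l
  | _, _ => 0

/-- The six maps on lists. -/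
def act : ℕ → List ℤ → List ℤ
  | 0 => monoAct [22, 0, 1, 2, 3, 4, 5, 6, 7, 8, 9, 10, 11, 12, 13, 14, 15, 16, 17, 18, 19, 20, 21, 23] 0
  | 1 => monoAct [0, 12, 1, 13, 2, 14, 3, 15, 4, 16, 5, 17, 6, 18, 7, 19, 8, 20, 9, 21, 10, 22, 11, 23] 0
  | 2 => monoAct [23, 22, 11, 15, 17, 9, 19, 13, 20, 5, 16, 2, 21, 7, 18, 3, 10, 4, 14, 6, 8, 12, 1, 0] 0
  | 3 => monoAct [0, 6, 4, 3, 18, 7, 2, 10, 12, 13, 20, 17, 9, 16, 22, 15, 8, 14, 1, 11, 21, 5, 19, 23] 0
  | 4 => monoAct (List.range 24) 340831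
  | _ => fun l => rMat.map fun r => dotList r l / 8

theorem coords_mono {σ : Equiv.Perm GolayPt} (hσ : σ ∈ M24) {c : Finset GolayPt} (hc : c ∈ codeSets)
    (src : List ℕ) (m : ℕ) (hs : ∀ i : Fin 24, src.getD i.val 0 < 24 ∧ σ (gpt (Fin.ofNat 24 (src.getD i.val 0))) = gpt i)
    (hm : c = mset m) (v : leechLattice) :
    coords ((monoCo0 σ hσ c hc • v : leechLattice) : GolayPt → ℤ) = monoAct src m (coords (v : GolayPt → ℤ)) := by
  rw [monoCo0_smul]
  refine List.map_inj_left.2 fun i _ => ?_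
  have h1 : σ.symm (gpt i) = gpt (Fin.ofNat 24 (src.getD i.val 0)) := (Equiv.symm_apply_eq _).2 (hs i).2.symm
  have h3 := coords_getD (v : GolayPt → ℤ) ⟨_, (hs i).1⟩
  have h4 : (⟨_, (hs i).1⟩ : Fin 24) = Fin.ofNat 24 (src.getD i.val 0) := Fin.ext (Nat.mod_eq_of_lt (hs i).1).symm
  rw [h4] at h3
  have h5 : (coords (v : GolayPt → ℤ)).getD (src.getD i.val 0) 0 = (v : GolayPt → ℤ) (σ.symm (gpt i)) := by
    rw [h1, ← h3, ← h4]
  simp only [signedPerm, h5, hm, mem_mset, gidx_gpt]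

theorem dotList_map {α : Type*} (f g : α → ℤ) : ∀ s : List α,
    dotList (s.map f) (s.map g) = (s.map fun j => f j * g j).sum
  | [] => rfl
  | a :: s => by simp [dotList, dotList_map f g s]

theorem rMat_rows : rMat = (List.finRange 24).map fun i => (List.finRange 24).map fun j => matEntry rMat i j := by
  decide +kernel

theorem coords_matrix (v : leechLattice) :
    coords ((matCo0 rMat rMat_ok • v : leechLattice) : GolayPt → ℤ) =
      rMat.map fun r => dotList r (coords (v : GolayPt → ℤ)) / 8 := by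
  conv_rhs => rw [rMat_rows]
  rw [List.map_map, matCo0_apply]
  refine List.map_inj_left.2 fun i _ => ?_
  simp only [Function.comp_apply, matFun, gidx_gpt, coords, dotList_map, matDot_eq, Fin.sum_univ_def]

/-- The word's product. -/
noncomputable def prodW : List ℕ → Co0
  | [] => 1
  | a :: w => gen a * prodW w

/-- The word's action on lists. -/
def actW : List ℕ → List ℤ → List ℤ
  | [], l => l
  | a :: w, l => act a (actW w l)

theorem coords_gen : ∀ (k : ℕ) (v : leechLattice),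
    coords ((gen k • v : leechLattice) : GolayPt → ℤ) = act k (coords (v : GolayPt → ℤ))
  | 0, v => coords_mono mShift_mem empty_mem_codeSets _ _ (by decide +kernel) mset_zero.symm v
  | 1, v => coords_mono dblMap_mem empty_mem_codeSets _ _ (by decide +kernel) mset_zero.symm v
  | 2, v => coords_mono projInv_mem empty_mem_codeSets _ _ (by decide +kernel) mset_zero.symm v
  | 3, v => coords_mono cubeTwist_mem empty_mem_codeSets _ _ (fun i => by revert i; decide +kernel) mset_zero.symm v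
  | 4, v => coords_mono (one_mem _) dodD_mem _ _ (by decide +kernel) rfl v
  | _ + 5, v => coords_matrix v

theorem coords_prodW : ∀ (w : List ℕ) (v : leechLattice),
    coords ((prodW w • v : leechLattice) : GolayPt → ℤ) = actW w (coords (v : GolayPt → ℤ))
  | [], v => by simp [prodW, actW]
  | a :: w, v => by rw [prodW, mul_smul, coords_gen, coords_prodW w v, actW]

theorem prodW_append : ∀ w u : List ℕ, prodW (w ++ u) = prodW w * prodW u
  | [], u => by simp [prodW]
  | a :: w, u => by simp [prodW, prodW_append w u, mul_assoc]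

/-- A word repeated. -/
def rep (w : List ℕ) : ℕ → List ℕ
  | 0 => []
  | n + 1 => w ++ rep w n

theorem prodW_rep (w : List ℕ) : ∀ n, prodW (rep w n) = prodW w ^ n
  | 0 => by simp [rep, prodW]
  | n + 1 => by rw [rep, prodW_append, prodW_rep w n, pow_succ']

theorem prodW_single (a : ℕ) : prodW [a] = gen a := mul_one _

/-- A unit coordinate list, scaled by eight. -/
def eList (i : Fin 24) : List ℤ := (List.finRange 24).map fun j => if j = i then 8 else 0

theorem coords_e8 (i : Fin 24) : coords ((e8 (gpt i) : leechLattice) : GolayPt → ℤ) = eList i :=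
  List.map_inj_left.2 fun j _ => by simp [e8, Pi.single_apply, gpt_injective.eq_iff]

/-- The natural map to the quotient by the centre. -/
abbrev toCo1 : Co0 →* Spor.Co1 := QuotientGroup.mk' (Subgroup.center Co0)

/-- The negation. -/
def negElt : Co0 := ⟨Equiv.neg leechLattice, fun v w => neg_add v w, fun v => by
  show sqNorm (-(v : GolayPt → ℤ)) = _
  simp [sqNorm]⟩

theorem negElt_apply (v : leechLattice) : negElt • v = -v := rfl

theorem negElt_mem : negElt ∈ Subgroup.center Co0 := Subgroup.mem_center_iff.2 fun k =>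
  Subtype.ext (Equiv.ext fun v => map_neg (co0Hom k) v)

theorem co0_ext {a b : Co0} (h : ∀ i, a • e8 i = b • e8 i) : a = b := by
  refine inv_mul_eq_one.1 (Subtype.ext (Equiv.ext fun v => Subtype.ext ?_))
  exact co0_eq_of_e8 (g := a⁻¹ * b) (f := id) (fun _ _ => rfl) (fun i => by
    show (((a⁻¹ * b) • e8 i : leechLattice) : GolayPt → ℤ) = _
    rw [mul_smul, ← h, inv_smul_smul]; rfl) v

/-- Hand over a number once it is evaluated. -/
def forceN {α : Type} (n : ℕ) (k : ℕ → α) : α := Nat.rec (k 0) (fun m _ => k (Nat.add m 1)) n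

theorem forceN_eq {α : Type} (n : ℕ) (k : ℕ → α) : forceN n k = k n := by cases n <;> rfl

/-- Hand over an integer once it is evaluated. -/
def forceI {α : Type} : ℤ → (ℤ → α) → α
  | Int.ofNat n, k => forceN n fun m => k (Int.ofNat m)
  | Int.negSucc n, k => forceN n fun m => k (Int.negSucc m)

theorem forceI_eq {α : Type} : ∀ (x : ℤ) (k : ℤ → α), forceI x k = k x
  | Int.ofNat n, k => by cases n <;> rfl
  | Int.negSucc n, k => by cases n <;> rfl

/-- Hand over a list once it is evaluated. -/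
def forceZ {α : Type} : List ℤ → (List ℤ → α) → α
  | [], k => k []
  | x :: l, k => forceI x fun y => forceZ l fun m => k (y :: m)

theorem forceZ_eq {α : Type} : ∀ (l : List ℤ) (k : List ℤ → α), forceZ l k = k l
  | [], _ => rfl
  | x :: l, k => by rw [forceZ, forceI_eq, forceZ_eq l]

/-- The action of a word, evaluated letter by letter. -/
def actK : List ℕ → List ℤ → (List ℤ → Bool) → Bool
  | [], l, k => k l
  | a :: w, l, k => actK w l fun m => forceZ (act a m) k

theorem actK_eq : ∀ (w : List ℕ) (l : List ℤ) (k : List ℤ → Bool), actK w l k = k (actW w l)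
  | [], _, _ => rfl
  | a :: w, l, k => by rw [actK, actK_eq w, forceZ_eq, actW]

/-- Two words agree up to the centre on the scaled unit lists. -/
def eqPM (w u : List ℕ) : Bool :=
  ((List.finRange 24).all fun i => actK w (eList i) fun a => actK u (eList i) fun b => a == b) ||
    ((List.finRange 24).all fun i => actK w (eList i) fun a => actK u (eList i) fun b => a == b.map Neg.neg)

theorem toCo1_eq_of_eqPM {w u : List ℕ} (h : eqPM w u = true) : toCo1 (prodW w) = toCo1 (prodW u) := by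
  simp only [eqPM, actK_eq, Bool.or_eq_true, List.all_eq_true, beq_iff_eq] at h
  rcases h with h | h
  · refine congrArg toCo1 (co0_ext fun p => Subtype.ext (coords_injective ?_))
    rw [← gpt_gidx p, coords_prodW, coords_prodW, coords_e8]
    exact h _ (List.mem_finRange _)
  · have he : prodW w = negElt * prodW u := co0_ext fun p => Subtype.ext (coords_injective ?_)
    · rw [he, map_mul, show toCo1 negElt = 1 from (QuotientGroup.eq_one_iff _).2 negElt_mem, one_mul]
    · rw [mul_smul, negElt_apply, AddSubgroup.coe_neg, coords_neg, ← gpt_gidx p, coords_prodW, coords_prodW,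
        coords_e8]
      exact h _ (List.mem_finRange _)

theorem eqPM_of_toCo1_eq {w u : List ℕ} (h : toCo1 (prodW w) = toCo1 (prodW u)) : eqPM w u = true := by
  have hz : (prodW u)⁻¹ * prodW w ∈ Subgroup.center Co0 := QuotientGroup.eq.1 h.symm
  obtain ⟨s, hs, hv⟩ := mem_center_apply hz 0
  have hw : ∀ i : Fin 24, ((prodW w • e8 (gpt i) : leechLattice) : GolayPt → ℤ) =
      s • ((prodW u • e8 (gpt i) : leechLattice) : GolayPt → ℤ) := fun i => by
    have h1 : prodW w = ((prodW u)⁻¹ * prodW w) * prodW u := by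
      rw [← Subgroup.mem_center_iff.1 hz (prodW u), mul_inv_cancel_left]
    rw [h1, mul_smul]
    exact hv _
  simp only [eqPM, actK_eq, Bool.or_eq_true, List.all_eq_true, beq_iff_eq, ← coords_e8, ← coords_prodW]
  rcases hs with rfl | rfl
  · exact Or.inl fun i _ => by rw [hw, one_smul]
  · exact Or.inr fun i _ => by rw [hw, neg_one_smul, coords_neg]

end Cfsg.Lib.Co1Out
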