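import Cfsg.Agent.Lib.Co1Out.Cent
import Cfsg.Agent.Lib.Co1Out.ChecksM
import Cfsg.Agent.Lib.Co1Out.ChecksR
import Cfsg.Agent.Lib.Concrete.MonsterCentral
import Cfsg.Agent.Lib.Concrete.LeechCrossMax
import Cfsg.Prelude.Def_KGroupFacts

/-!
Every automorphism of the quotient of the lattice group by its centre is inner.

An automorphism is moved by inner ones until it fixes the element of order 11 and sends the shift to
itself or its inverse; the centraliser of the element of order 11 and short relations then force it to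
fix the six elements, which generate.
-/

set_option autoImplicit false
set_option maxRecDepth 100000

namespace Cfsg.Lib.Co1Out

open Cfsg Cfsg.Lib.Concrete
open scoped Pointwise

local notation "cU" => toCo1 (gen 0)
local notation "cH" => toCo1 (gen 1)
local notation "cT" => toCo1 (gen 2)
local notation "cD" => toCo1 (gen 3)
local notation "cE" => toCo1 (gen 4)
local notation "cR" => toCo1 (gen 5)

/-- The class of a word. -/
noncomputable def cls (w : List ℕ) : Spor.Co1 := toCo1 (prodW w)

theorem cls_nil : cls [] = 1 := map_one _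

theorem cls_append (w u : List ℕ) : cls (w ++ u) = cls w * cls u := by rw [cls, prodW_append, map_mul]; rfl

theorem cls_single (a : ℕ) : cls [a] = toCo1 (gen a) := by rw [cls, prodW_single]

theorem cls_rep (w : List ℕ) (n : ℕ) : cls (rep w n) = cls w ^ n := by rw [cls, prodW_rep, map_pow]; rfl

theorem cls_cons (a : ℕ) (w : List ℕ) : cls (a :: w) = toCo1 (gen a) * cls w := by
  rw [← cls_single, ← cls_append]; rfl

theorem cls_eq {w u : List ℕ} (h : eqPM w u = true) : cls w = cls u := toCo1_eq_of_eqPM h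

theorem cls_ne {w u : List ℕ} (h : eqPM w u = false) : cls w ≠ cls u := fun e => by
  rw [eqPM_of_toCo1_eq e] at h; exact absurd h (by simp)

theorem u_pow : cU ^ 23 = 1 := by
  rw [← cls_single, ← cls_rep, ← cls_nil]; exact cls_eq basic_rel.1

theorem u_ne : cU ≠ 1 := by rw [← cls_single, ← cls_nil]; exact cls_ne basic_rel.2.1

theorem hu_rel : cH * cU = cU ^ 2 * cH := by
  have h := cls_eq basic_rel.2.2.1
  simp only [cls_cons, cls_nil, mul_one] at h
  rw [h, pow_two, mul_assoc]

theorem h_pow : cH ^ 11 = 1 := by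
  rw [← cls_single, ← cls_rep, ← cls_nil]; exact cls_eq basic_rel.2.2.2.1

theorem e_sq : cE * cE = 1 := by
  have h := cls_eq basic_rel.2.2.2.2.1
  simpa only [cls_cons, cls_nil, mul_one] using h

theorem e_ne : cE ≠ 1 := by rw [← cls_single, ← cls_nil]; exact cls_ne basic_rel.2.2.2.2.2.1

theorem eh_rel : cE * cH = cH * cE := by
  simpa only [cls_cons, cls_nil, mul_one] using cls_eq basic_rel.2.2.2.2.2.2.1

theorem cls_conjU (w : List ℕ) (k : ℕ) (hk : k ≤ 23) : cls (conjU w k) = cU ^ k * cls w * (cU ^ k)⁻¹ := by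
  have h : cU ^ (23 - k) = (cU ^ k)⁻¹ := eq_inv_of_mul_eq_one_left (by rw [← pow_add, Nat.sub_add_cancel hk, u_pow])
  rw [conjU, cls_append, cls_append, cls_rep, cls_rep, cls_single, h, mul_assoc]

theorem ee_rel : Commute cE (cU * cE * cU⁻¹) := by
  have h := cls_eq basic_rel.2.2.2.2.2.2.2.1
  rwa [cls_append, cls_append, cls_conjU _ _ (by norm_num), pow_one, cls_single] at h

theorem dh_rel : cD * cH = cH ^ 3 * cD := by
  have h := cls_eq basic_rel.2.2.2.2.2.2.2.2.1
  simp only [cls_cons, cls_nil, mul_one, cls_append] at h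
  rw [h, pow_succ, pow_two]; group

theorem de_rel : cD * cE = cE * cD := by
  simpa only [cls_cons, cls_nil, mul_one] using cls_eq basic_rel.2.2.2.2.2.2.2.2.2.1

theorem th_rel : cT * cH = cH ^ 10 * cT := by
  have h := cls_eq basic_rel.2.2.2.2.2.2.2.2.2.2.1
  simpa only [cls_cons, cls_nil, mul_one, cls_append, cls_rep] using h

theorem te_rel : cT * cE = cE * cT := by
  simpa only [cls_cons, cls_nil, mul_one] using cls_eq basic_rel.2.2.2.2.2.2.2.2.2.2.2.1

theorem rh_rel : cR * cH = cH * cR := by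
  simpa only [cls_cons, cls_nil, mul_one] using cls_eq basic_rel.2.2.2.2.2.2.2.2.2.2.2.2.1

theorem r_cube : cR * cR * cR = 1 := by
  have h := cls_eq basic_rel.2.2.2.2.2.2.2.2.2.2.2.2.2.1
  simpa only [cls_cons, cls_nil, mul_one, mul_assoc] using h

theorem r_ne : cR ≠ 1 := by rw [← cls_single, ← cls_nil]; exact cls_ne basic_rel.2.2.2.2.2.2.2.2.2.2.2.2.2.2

theorem cls_wordD (c : List ℕ) : cls (wordD c) = (cD * cls c * cU ^ 20) ^ 5 := by
  rw [wordD, cls_rep, cls_append, cls_append, cls_single, cls_rep, cls_single]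

theorem cls_wordT (c : List ℕ) : cls (wordT c) = (cT * cls c * cU ^ 2 * cD * cU ^ 4) ^ 4 := by
  simp only [wordT, cls_rep, cls_append, cls_single]

theorem cls_wordR (c : List ℕ) : cls (wordR c) = (cls c * cU) ^ 15 := by
  rw [wordR, cls_rep, cls_append, cls_single]

theorem finite_Co1 : Finite Spor.Co1 := Nat.finite_of_card_ne_zero (by rw [card_Co1_eq]; norm_num)

theorem exists_sylow_move (f : MulAut Spor.Co1) : ∃ g : Spor.Co1, ∃ m : ℕ, g * f cU * g⁻¹ = cU ^ m := by
  haveI := finite_Co1
  haveI : Fact (Nat.Prime 23) := ⟨by norm_num⟩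
  have hcard : ∀ a : Spor.Co1, a ^ 23 = 1 → a ≠ 1 → Nat.card (Subgroup.zpowers a) = 23 := fun a h1 h2 => by
    rw [Nat.card_zpowers]; exact orderOf_eq_prime h1 h2
  have hidx : ∀ a : Spor.Co1, a ^ 23 = 1 → a ≠ 1 → ¬ 23 ∣ (Subgroup.zpowers a).index := fun a h1 h2 hd => by
    have h3 := Subgroup.card_mul_index (Subgroup.zpowers a)
    rw [hcard a h1 h2, card_Co1_eq] at h3
    omega
  have hu := hcard _ u_pow u_ne
  have hf1 : f cU ^ 23 = 1 := by rw [← map_pow, u_pow, map_one]
  have hf2 : f cU ≠ 1 := fun h => u_ne (f.injective (h.trans (map_one f).symm))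
  let P : Sylow 23 Spor.Co1 := (IsPGroup.of_card (n := 1) (by rw [hu, pow_one])).toSylow (hidx _ u_pow u_ne)
  let P' : Sylow 23 Spor.Co1 :=
    (IsPGroup.of_card (n := 1) (by rw [hcard _ hf1 hf2, pow_one])).toSylow (hidx _ hf1 hf2)
  obtain ⟨g, hg⟩ := MulAction.exists_smul_eq Spor.Co1 P' P
  have hmem : g * f cU * g⁻¹ ∈ (g • P' : Sylow 23 Spor.Co1) :=
    Subgroup.smul_mem_pointwise_smul (f cU) (MulAut.conj g) _ (Subgroup.mem_zpowers _)
  rw [hg] at hmem
  obtain ⟨m, hm⟩ := (mem_powers_iff_mem_zpowers (x := cU)).2 hmem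
  exact ⟨g, m, hm.symm⟩

theorem h_conj_pow (j : ℕ) : cH ^ j * cU * (cH ^ j)⁻¹ = cU ^ 2 ^ j := by
  induction j with
  | zero => simp
  | succ j ih =>
    have h1 : cH * cU * cH⁻¹ = cU ^ 2 := by rw [hu_rel, mul_inv_cancel_right]
    calc cH ^ (j + 1) * cU * (cH ^ (j + 1))⁻¹ = cH * (cH ^ j * cU * (cH ^ j)⁻¹) * cH⁻¹ := by
          rw [pow_succ' cH j]; group
      _ = (cH * cU * cH⁻¹) ^ 2 ^ j := by rw [ih, conj_pow]
      _ = cU ^ 2 ^ (j + 1) := by rw [h1, ← pow_mul, pow_succ, mul_comm 2]

theorem twist_exponent : ∀ m < 23, m ≠ 0 → ∃ j < 11, m * 2 ^ j % 23 = 1 ∨ m * 2 ^ j % 23 = 22 := by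
  decide +kernel

theorem u_pow_mod (n : ℕ) : cU ^ n = cU ^ (n % 23) := pow_eq_pow_mod n u_pow

/-- Normalised automorphisms fix the six elements. -/
theorem fixes_gens (f : MulAut Spor.Co1) (hu : f cU = cU ∨ f cU = cU⁻¹) (hh : f cH = cH) :
    f cU = cU ∧ f cE = cE ∧ f cD = cD ∧ f cT = cT ∧ f cR = cR := by
  have hE : f cE = cE := by
    obtain ⟨w, hw, hwe⟩ := centralizer_dbl (x := f cE) (by
      conv_lhs => rw [← hh, ← map_mul, eh_rel, map_mul, hh])
    change f cE = cls w at hwe
    have h := List.all_eq_true.1 excl_E w hw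
    simp only [Bool.or_eq_true, Bool.not_eq_true', beq_iff_eq] at h
    rcases h with ((h | h) | h) | h
    · rw [hwe, h, cls_single]
    · exact absurd (f.injective ((hwe.trans (cls_eq h)).trans (cls_nil.trans (map_one f).symm))) e_ne
    · exact absurd (by rw [cls_append, ← hwe, ← map_mul, e_sq, map_one, cls_nil]) (cls_ne h)
    · refine absurd ?_ (cls_ne h)
      rw [cls_append, cls_append, cls_conjU _ _ (by norm_num), pow_one, ← hwe]
      have hc := ee_rel.map f.toMonoidHom
      simp only [MulEquiv.coe_toMonoidHom, map_mul, map_inv] at hc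
      rcases hu with hu | hu <;> rw [hu] at hc
      · exact hc.eq
      · have := hc.map (MulAut.conj cU).toMonoidHom
        simp only [MulEquiv.coe_toMonoidHom, MulAut.conj_apply, inv_inv] at this
        rw [show cU * (cU⁻¹ * f cE * cU) * cU⁻¹ = f cE by group] at this
        exact this.symm.eq
  have hU : f cU = cU := by
    refine hu.resolve_right fun hu => ?_
    have hprod : ∀ b : Bool, cls (wordE b) = (([0, 1, 2, 3, 9, 12, 21] : List ℕ).map fun k =>
        cls (conjU [4] (if b then (23 - k) % 23 else k))).prod := fun b => by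
      rw [wordE]
      generalize ([0, 1, 2, 3, 9, 12, 21] : List ℕ) = L
      induction L with
      | nil => exact cls_nil
      | cons k L ih => rw [List.flatMap_cons, cls_append, ih, List.map_cons, List.prod_cons]
    refine cls_ne word_rel.2.1 ?_
    rw [cls_nil, ← map_one f, ← cls_nil, ← cls_eq word_rel.1, hprod, hprod, map_list_prod, List.map_map]
    refine congrArg List.prod (List.map_inj_left.2 fun k hk => ?_)
    have hk' : k ≤ 23 := by simp only [List.mem_cons, List.not_mem_nil, or_false] at hk; omega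
    have hinv : cU ^ ((23 - k) % 23) = (cU⁻¹) ^ k := by
      rw [← u_pow_mod, inv_pow]
      exact eq_inv_of_mul_eq_one_left (by rw [← pow_add, Nat.sub_add_cancel hk', u_pow])
    simp only [Function.comp_apply, if_true, Bool.false_eq_true, if_false]
    rw [cls_conjU _ _ hk', cls_conjU _ _ (by omega), hinv, map_mul, map_mul, map_inv, map_pow, hu, cls_single, hE]
  have hD : f cD = cD := by
    have h3 : f cD * cH = cH ^ 3 * f cD := by
      have := congrArg f dh_rel
      rwa [map_mul, map_mul, map_pow, hh] at this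
    obtain ⟨w, hw, hwe⟩ := centralizer_dbl (x := cD⁻¹ * f cD) (by
      calc cD⁻¹ * f cD * cH = cD⁻¹ * (cH ^ 3 * cD) * (cD⁻¹ * f cD) := by rw [mul_assoc, h3]; group
        _ = cH * (cD⁻¹ * f cD) := by rw [← dh_rel, inv_mul_cancel_left])
    change _ = cls w at hwe
    have h := List.all_eq_true.1 excl_D w hw
    simp only [Bool.or_eq_true, Bool.not_eq_true', beq_iff_eq] at h
    rcases h with h | h
    · rw [h, cls_nil, inv_mul_eq_one] at hwe
      exact hwe.symm
    · refine absurd ?_ (cls_ne h)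
      rw [cls_wordD, ← hwe, mul_inv_cancel_left, ← hU, ← map_pow, ← map_mul, ← map_pow, cls_nil, ← map_one f]
      refine congrArg f ?_
      rw [← mul_one cD, ← cls_nil, ← cls_wordD, cls_eq word_rel.2.2.1]
  have hT : f cT = cT := by
    have h3 : f cT * cH = cH ^ 10 * f cT := by
      have := congrArg f th_rel
      rwa [map_mul, map_mul, map_pow, hh] at this
    have h4 : f cT * cE = cE * f cT := by
      have := congrArg f te_rel
      rwa [map_mul, map_mul, hE] at this
    obtain ⟨w, hw, hwe⟩ := centralizer_dbl (x := cT⁻¹ * f cT) (by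
      calc cT⁻¹ * f cT * cH = cT⁻¹ * (cH ^ 10 * cT) * (cT⁻¹ * f cT) := by rw [mul_assoc, h3]; group
        _ = cH * (cT⁻¹ * f cT) := by rw [← th_rel, inv_mul_cancel_left])
    change _ = cls w at hwe
    have h := List.all_eq_true.1 excl_T w hw
    simp only [Bool.or_eq_true, Bool.not_eq_true', beq_iff_eq] at h
    rcases h with (h | h) | h
    · rw [h, cls_nil, inv_mul_eq_one] at hwe
      exact hwe.symm
    · refine absurd ?_ (cls_ne h)
      rw [cls_append, cls_append, cls_single, ← hwe]
      calc cT⁻¹ * f cT * cE = cT⁻¹ * (cE * cT) * (cT⁻¹ * f cT) := by rw [mul_assoc, h4]; group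
        _ = cE * (cT⁻¹ * f cT) := by rw [← te_rel, inv_mul_cancel_left]
    · refine absurd ?_ (cls_ne h)
      rw [cls_wordT, ← hwe, mul_inv_cancel_left, cls_nil]
      have h1 : (cT * cU ^ 2 * cD * cU ^ 4) ^ 4 = 1 := by
        have h2 := cls_eq word_rel.2.2.2
        rwa [cls_wordT, cls_nil, mul_one] at h2
      have h2 := congrArg f h1
      simpa only [map_pow, map_mul, map_one, hU, hD] using h2
  have hR : f cR = cR := by
    obtain ⟨w, hw, hwe⟩ := centralizer_dbl (x := f cR) (by
      conv_lhs => rw [← hh, ← map_mul, rh_rel, map_mul, hh])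
    change _ = cls w at hwe
    have h := List.all_eq_true.1 excl_R w hw
    simp only [Bool.or_eq_true, Bool.not_eq_true', beq_iff_eq] at h
    rcases h with ((h | h) | h) | h
    · rw [hwe, h, cls_single]
    · exact absurd (f.injective ((hwe.trans (cls_eq h)).trans (cls_nil.trans (map_one f).symm))) r_ne
    · exact absurd (by rw [cls_append, cls_append, ← hwe, ← map_mul, ← map_mul, r_cube, map_one, cls_nil]) (cls_ne h)
    · refine absurd ?_ (cls_ne h)
      rw [cls_wordR, ← hwe, ← hU, ← map_mul, ← map_pow, cls_nil, ← map_one f]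
      refine congrArg f ?_
      rw [← cls_single 5, ← cls_wordR, cls_eq wordR_rel, cls_nil]
  exact ⟨hU, hE, hD, hT, hR⟩

/-- A sign change. -/
noncomputable def signElt (c : Finset GolayPt) (hc : c ∈ codeSets) : Co0 := monoCo0 1 (one_mem _) c hc

theorem signElt_smul (c : Finset GolayPt) (hc : c ∈ codeSets) (v : leechLattice) (p : GolayPt) :
    ((signElt c hc • v : leechLattice) : GolayPt → ℤ) p =
      if p ∈ c then -(v : GolayPt → ℤ) p else (v : GolayPt → ℤ) p := by
  rw [signElt, monoCo0_smul]; rfl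

theorem signElt_mul (a b : Finset GolayPt) (ha : a ∈ codeSets) (hb : b ∈ codeSets) :
    signElt (symmDiff a b) (symmDiff_mem_supports ha hb) = signElt a ha * signElt b hb :=
  co0_ext fun i => Subtype.ext (funext fun p => by
    rw [mul_smul, signElt_smul, signElt_smul, signElt_smul]
    simp only [Finset.mem_symmDiff]
    by_cases h1 : p ∈ a <;> by_cases h2 : p ∈ b <;> simp [h1, h2])

theorem signElt_conj (σ : M24) (c : Finset GolayPt) (hc : c ∈ codeSets) :
    permHom σ * signElt c hc * (permHom σ)⁻¹ = signElt (σ.1 • c) (mem_M24_iff.1 σ.2 c hc) := by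
  rw [← map_inv]
  refine co0_ext fun i => Subtype.ext (funext fun p => ?_)
  rw [mul_smul, mul_smul, permHom_smul, signElt_smul, signElt_smul, permHom_smul]
  have hiff : p ∈ σ.1 • c ↔ σ.1.symm p ∈ c := by rw [← Finset.inv_smul_mem_iff]; rfl
  have hinv : ((σ⁻¹ : M24) : Equiv.Perm GolayPt).symm (σ.1.symm p) = p := by
    rw [InvMemClass.coe_inv]; exact σ.1.apply_symm_apply p
  simp only [hiff, hinv]

theorem translate_dodD : ∀ t : ZMod 23, (mShift ^ t.val) • dodD = support₂ (qrWord t) := by decide +kernel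

theorem signElt_congr {a b : Finset GolayPt} (h : a = b) (ha : a ∈ codeSets) (hb : b ∈ codeSets) :
    signElt a ha = signElt b hb := by subst h; rfl

theorem signElt_empty (c : Finset GolayPt) (hc : c ∈ codeSets) (h : c = ∅) : signElt c hc = 1 :=
  co0_ext fun i => Subtype.ext (funext fun p => by
    rw [signElt_smul, one_smul, if_neg (h ▸ Finset.notMem_empty p)])

theorem signElt_univ (c : Finset GolayPt) (hc : c ∈ codeSets) (h : c = Finset.univ) : signElt c hc = negElt :=
  co0_ext fun i => Subtype.ext (funext fun p => by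
    rw [signElt_smul, negElt_apply, if_pos (h ▸ Finset.mem_univ p)]
    rfl)

theorem gen_four : gen 4 = signElt dodD dodD_mem := rfl

theorem support_zero : support₂ (0 : GolayPt → ZMod 2) = ∅ := by simp [support₂]

theorem support_one : support₂ (1 : GolayPt → ZMod 2) = Finset.univ := by simp [support₂]

theorem support_add (x y : GolayPt → ZMod 2) : support₂ (x + y) = symmDiff (support₂ x) (support₂ y) := by
  ext p
  have h01 : ∀ a : ZMod 2, a = 0 ∨ a = 1 := by decide
  have h11 : (1 : ZMod 2) + 1 = 0 := by decide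
  rcases h01 (x p) with a | a <;> rcases h01 (y p) with b | b <;>
    simp [support₂, Finset.mem_symmDiff, a, b, h11]

/-- A subgroup of the lattice group with the six elements and the negation is everything. -/
theorem eq_top_of_gens (K : Subgroup Co0) (hU : gen 0 ∈ K) (hT : gen 2 ∈ K) (hD : gen 3 ∈ K) (hE : gen 4 ∈ K)
    (hR : gen 5 ∈ K) (hN : negElt ∈ K) : K = ⊤ := by
  have hperm : ∀ σ : M24, permHom σ ∈ K := fun σ => by
    have hle : Subgroup.closure m24Gens ≤ (K.comap permHom).map M24.subtype := by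
      rw [Subgroup.closure_le]
      rintro g (rfl | rfl | rfl)
      · exact ⟨⟨_, mShift_mem⟩, hU, rfl⟩
      · exact ⟨⟨_, projInv_mem⟩, hT, rfl⟩
      · exact ⟨⟨_, cubeTwist_mem⟩, hD, rfl⟩
    have hmem : σ.1 ∈ Subgroup.closure m24Gens := M24_eq_closure.symm ▸ σ.2
    obtain ⟨τ, hτ, e⟩ := hle hmem
    exact (Subtype.ext e : τ = σ) ▸ hτ
  have hsign : ∀ w ∈ golayCode, ∀ c, ∀ hc : c ∈ codeSets, c = support₂ w → signElt c hc ∈ K := by
    intro w hw
    induction hw using Submodule.span_induction with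
    | mem x hx =>
      intro c hc e
      rcases hx with ⟨t, rfl⟩ | hx
      · have h := mul_mem (mul_mem (hperm (shiftM ^ t.val)) hE) (inv_mem (hperm (shiftM ^ t.val)))
        rw [gen_four, signElt_conj] at h
        have e' : (shiftM ^ t.val : M24).1 • dodD = c := by
          rw [e, SubmonoidClass.coe_pow]; exact translate_dodD t
        rw [signElt_congr e' _ hc] at h
        exact h
      · rw [Set.mem_singleton_iff] at hx
        rw [hx, support_one] at e
        rw [signElt_univ c hc e]
        exact hN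
    | zero =>
      intro c hc e
      rw [signElt_empty c hc (e.trans support_zero)]
      exact one_mem K
    | add x y hx hy ihx ihy =>
      intro c hc e
      have ha : support₂ x ∈ codeSets := ⟨x, hx, rfl⟩
      have hb : support₂ y ∈ codeSets := ⟨y, hy, rfl⟩
      have h := mul_mem (ihx _ ha rfl) (ihy _ hb rfl)
      rw [← signElt_mul, signElt_congr ((support_add x y).symm.trans e.symm) _ hc] at h
      exact h
    | smul a x hx ih =>
      intro c hc e
      have h01 : ∀ a : ZMod 2, a = 0 ∨ a = 1 := by decide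
      rcases h01 a with rfl | rfl
      · rw [signElt_empty c hc (e.trans ((congrArg support₂ (zero_smul (ZMod 2) x)).trans support_zero))]
        exact one_mem K
      · exact ih c hc (e.trans (congrArg support₂ (one_smul (ZMod 2) x)))
  have hle : crossStab ≤ K := fun g hg => by
    obtain ⟨σ, c, hc, hgv⟩ := crossStab_monomial ⟨g, hg⟩
    obtain ⟨w, hw, e⟩ := id hc
    have h : g = signElt c hc * permHom σ := co0_ext fun i => Subtype.ext (funext fun p => by
      rw [hgv, mul_smul, signElt_smul, permHom_smul]; rfl)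
    rw [h]
    exact mul_mem (hsign w hw c hc e.symm) (hperm σ)
  refine crossStab_isCoatom.2 K (lt_of_le_of_ne hle fun e => ?_)
  have h := mem_crossStab_iff_top.1 (show gen 5 ∈ crossStab from e ▸ hR)
  obtain ⟨i, s, hs, heq⟩ := h
  have h23 := coords_getD ((gen 5 • top : leechLattice) : GolayPt → ℤ) 23
  rw [coords_gen, show (top : leechLattice) = e8 (gpt 23) from rfl, coords_e8] at h23
  have h5 := gen_five_moves
  simp only [beq_iff_eq] at h5
  have h6 := h5.symm.trans h23
  rw [show e8 (gpt 23) = top from rfl, heq] at h6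
  by_cases hi : gpt 23 = i
  · rw [hi, Pi.single_eq_same] at h6; omega
  · rw [Pi.single_eq_of_ne hi] at h6; omega

theorem normalised_eq_one (f : MulAut Spor.Co1) (hu : f cU = cU ∨ f cU = cU⁻¹) (hh : f cH = cH) : f = 1 := by
  obtain ⟨hU, hE, hD, hT, hR⟩ := fixes_gens f hu hh
  let K : Subgroup Co0 := MonoidHom.eqLocus (f.toMonoidHom.comp toCo1) toCo1
  have hN : negElt ∈ K := by
    show f (toCo1 negElt) = toCo1 negElt
    rw [show toCo1 negElt = 1 from (QuotientGroup.eq_one_iff _).2 negElt_mem, map_one]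
  have htop := eq_top_of_gens K hU hT hD hE hR hN
  refine MulEquiv.ext fun x => ?_
  obtain ⟨g, rfl⟩ := QuotientGroup.mk'_surjective (Subgroup.center Co0) x
  exact (show g ∈ K from htop ▸ Subgroup.mem_top g)

/-- Every automorphism of the quotient is inner. -/
theorem mem_inn (f : MulAut Spor.Co1) : f ∈ Inn Spor.Co1 := by
  obtain ⟨g, m, hm⟩ := exists_sylow_move f
  have hconj : ∀ a : Spor.Co1, MulAut.conj a ∈ Inn Spor.Co1 := fun a => ⟨a, rfl⟩
  rw [← Subgroup.mul_mem_cancel_left _ (hconj g)]
  set f1 := MulAut.conj g * f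
  have hf1 : f1 cU = cU ^ (m % 23) := by rw [← u_pow_mod]; exact hm
  have hm0 : m % 23 ≠ 0 := fun h => by
    rw [h, pow_zero] at hf1
    exact u_ne (f1.injective (hf1.trans (map_one f1).symm))
  obtain ⟨j, -, hj⟩ := twist_exponent _ (Nat.mod_lt _ (by norm_num)) hm0
  rw [← Subgroup.mul_mem_cancel_left _ (hconj (cH ^ j))]
  set f2 := MulAut.conj (cH ^ j) * f1 with hf2def
  have hf2 : f2 cU = cU ∨ f2 cU = cU⁻¹ := by
    have h : f2 cU = cU ^ (m % 23 * 2 ^ j % 23) := by
      rw [← u_pow_mod, hf2def, MulAut.mul_apply, hf1, MulAut.conj_apply, ← conj_pow, h_conj_pow, ← pow_mul, mul_comm]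
    rcases hj with e | e <;> rw [e] at h
    · exact Or.inl (h.trans (pow_one _))
    · exact Or.inr (h.trans (eq_inv_of_mul_eq_one_left (by rw [← pow_succ]; exact u_pow)))
  have hX : f2 cH * cU = cU ^ 2 * f2 cH := by
    have h := congrArg f2 hu_rel
    rw [map_mul, map_mul, map_pow] at h
    rcases hf2 with e | e <;> rw [e] at h
    · exact h
    · rw [inv_pow] at h
      calc f2 cH * cU = cU ^ 2 * ((cU ^ 2)⁻¹ * f2 cH) * cU := by group
        _ = cU ^ 2 * (f2 cH * cU⁻¹) * cU := by rw [h]
        _ = cU ^ 2 * f2 cH := by group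
  obtain ⟨t, ht⟩ := centralizer_shift (x := cH⁻¹ * f2 cH) (by
    calc cH⁻¹ * f2 cH * cU = cH⁻¹ * (cU ^ 2 * cH) * (cH⁻¹ * f2 cH) := by rw [mul_assoc, hX]; group
      _ = cU * (cH⁻¹ * f2 cH) := by rw [← hu_rel, inv_mul_cancel_left])
  rw [← Subgroup.mul_mem_cancel_left _ (hconj (cU ^ (2 * t)))]
  set f3 := MulAut.conj (cU ^ (2 * t)) * f2 with hf3def
  have h3u : f3 cU = cU ∨ f3 cU = cU⁻¹ := by
    rw [hf3def, MulAut.mul_apply, MulAut.conj_apply]
    have hc : Commute (cU ^ (2 * t)) cU := Commute.pow_self _ _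
    rcases hf2 with e | e <;> rw [e]
    · exact Or.inl (by rw [hc.eq, mul_inv_cancel_right])
    · exact Or.inr (by rw [hc.inv_right.eq, mul_inv_cancel_right])
  have h3h : f3 cH = cH := by
    rw [hf3def, MulAut.mul_apply, MulAut.conj_apply, inv_mul_eq_iff_eq_mul.1 ht]
    have hm : ∀ k : ℕ, cH * cU ^ k = cU ^ (2 * k) * cH := fun k => by
      rw [pow_mul]; exact (SemiconjBy.pow_right (show SemiconjBy cH cU (cU ^ 2) from hu_rel) k).eq
    rw [hm t, ← mul_assoc, ← pow_add, mul_inv_eq_iff_eq_mul, hm (2 * t)]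
    congr 2
    ring
  rw [normalised_eq_one f3 h3u h3h]
  exact one_mem _

end Cfsg.Lib.Co1Out
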